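import Groth.Agent.SplitRegLib.Local
import Groth.Agent.KoszAtLib.Ring
import Groth.Agent.RegImmKindLib.H1Descent
import Mathlib

/-!
# Regularity of the composite of a regular immersion and a smooth map, ring level
-/

set_option autoImplicit false
set_option linter.style.haveILetI false
set_option backward.isDefEq.respectTransparency.types false

noncomputable section

universe u

open KaehlerDifferential TensorProduct

namespace SmoothDescRegLib

variable {R P : Type u} [CommRing R] [CommRing P] [Algebra R P]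

/-- Quotient by equations whose differentials form a basis is etale. -/
theorem formallyEtale_quot [Algebra.FormallySmooth R P] {ι : Type u} [Finite ι] (b : Module.Basis ι P Ω[P⁄R])
    (f : ι → P) (hb : ∀ i, b i = D R P (f i)) :
    Algebra.FormallyEtale R (P ⧸ Ideal.span (Set.range f)) := by
  classical
  let K := Ideal.span (Set.range f)
  let S := P ⧸ K
  have hs : Function.Surjective (algebraMap P S) := Ideal.Quotient.mk_surjective
  have hker : RingHom.ker (algebraMap P S) = K := Ideal.mk_ker
  have hf : ∀ i, f i ∈ RingHom.ker (algebraMap P S) := fun i => by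
    rw [hker]; exact Ideal.subset_span (Set.mem_range_self i)
  haveI : Algebra.FormallyUnramified R S := ⟨by
    refine subsingleton_of_forall_eq 0 fun x => ?_
    obtain ⟨y, rfl⟩ := map_surjective_of_surjective R R P S hs x
    suffices h : KaehlerDifferential.map R R P S = 0 by rw [h, LinearMap.zero_apply]
    refine b.ext fun i => ?_
    rw [hb, KaehlerDifferential.map_D, RingHom.mem_ker.1 (hf i), map_zero, LinearMap.zero_apply]⟩
  haveI : Algebra.FormallySmooth R S := by
    let m : Ω[P⁄R] →ₗ[P] (RingHom.ker (algebraMap P S)).Cotangent :=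
      b.constr P fun i => Ideal.toCotangent _ ⟨f i, hf i⟩
    have hm : K • (⊤ : Submodule P Ω[P⁄R]) ≤ LinearMap.ker m := Submodule.smul_le.2 fun c hc n _ => by
      rw [LinearMap.mem_ker, map_smul]
      obtain ⟨y, hy⟩ := Ideal.toCotangent_surjective _ (m n)
      rw [← hy, ← map_smul, Ideal.toCotangent_eq_zero]
      rw [pow_two]
      exact Ideal.mul_mem_mul (hker.symm ▸ hc) y.2
    let l : S ⊗[P] Ω[P⁄R] →ₗ[P] (RingHom.ker (algebraMap P S)).Cotangent :=
      (Submodule.liftQ _ m hm).comp (TensorProduct.quotTensorEquivQuotSMul Ω[P⁄R] K).toLinearMap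
    have hl : ∀ n, l ((1 : S) ⊗ₜ[P] n) = m n := fun n => by
      show Submodule.liftQ _ m hm (TensorProduct.quotTensorEquivQuotSMul Ω[P⁄R] K
        (Ideal.Quotient.mk K 1 ⊗ₜ[P] n)) = m n
      rw [TensorProduct.quotTensorEquivQuotSMul_mk_tmul, one_smul]
      rfl
    refine (Algebra.FormallySmooth.iff_split_injection hs).2 ⟨l, LinearMap.ext fun z => ?_⟩
    obtain ⟨⟨z, hz⟩, rfl⟩ := Ideal.toCotangent_surjective _ z
    obtain ⟨c, hc⟩ : ∃ c : RingHom.ker (algebraMap P S) , (c : P) = z ∧
        c ∈ Submodule.span P (Set.range fun i => (⟨f i, hf i⟩ : RingHom.ker (algebraMap P S))) := by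
      refine ⟨⟨z, hz⟩, rfl, ?_⟩
      rw [← Submodule.apply_mem_span_image_iff_mem_span (Submodule.injective_subtype _)]
      rw [← Set.range_comp]
      exact hker.le hz
    obtain rfl : c = ⟨z, hz⟩ := Subtype.ext hc.1
    refine LinearMap.eqOn_span (R := P) (f := (l ∘ₗ kerCotangentToTensor R P S) ∘ₗ Ideal.toCotangent _)
      (g := Ideal.toCotangent _) ?_ hc.2
    rintro _ ⟨i, rfl⟩
    show l (kerCotangentToTensor R P S (Ideal.toCotangent _ ⟨f i, hf i⟩)) = _
    rw [kerCotangentToTensor_toCotangent, hl, ← hb, b.constr_basis]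
  exact Algebra.FormallyEtale.of_formallyUnramified_and_formallySmooth

/-- The chart: an ideal cut out by equations with independent differentials, the base ideal and its square. -/
theorem exists_chart [Algebra.Smooth R P] {k : RegImm.Kind} (hk : k ≠ .regular) (J : Ideal R) (I : Ideal P)
    (hI : RegImmKindLib.LocK k I) (hJI : J.map (algebraMap R P) ≤ I) (Q : Ideal P) [Q.IsPrime] (hIQ : I ≤ Q)
    {ι : Type u} [Finite ι] (b : Module.Basis ι P Ω[P⁄R]) (f : ι → P) (hb : ∀ i, b i = D R P (f i))
    (hfI : ∀ i, f i ∈ I) (hgen : I ≤ Ideal.span (Set.range f) ⊔ J.map (algebraMap R P) ⊔ I * I) :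
    ∃ (C : Type u) (_ : CommRing C) (_ : Algebra R C), Module.Flat R C ∧ Algebra.FinitePresentation R C ∧
      (∃ p : Ideal C, p.IsPrime ∧ p.comap (algebraMap R C) = Q.comap (algebraMap R P)) ∧
      RegImmKindLib.LocK k (J.map (algebraMap R C)) := by
  classical
  cases nonempty_fintype ι
  let K := Ideal.span (Set.range f)
  haveI := formallyEtale_quot b f hb
  haveI : Algebra.FinitePresentation R (P ⧸ K) :=
    Algebra.FinitePresentation.quotient (Submodule.fg_span (Set.finite_range f))
  haveI : Algebra.Smooth R (P ⧸ K) := {}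
  let σ : P →ₐ[R] P ⧸ K := Ideal.Quotient.mkₐ R K
  have hσ : Function.Surjective σ := Ideal.Quotient.mk_surjective
  have hkσ : RingHom.ker σ.toRingHom = K := Ideal.mk_ker
  have hKI : K ≤ I := Ideal.span_le.2 (by rintro _ ⟨i, rfl⟩; exact hfI i)
  have hkos : k = .koszul → RegImmKindLib.LocK .koszul (RingHom.ker σ.toRingHom) := fun _ =>
    (RegImmKindLib.locK_koszul_iff _).2 ((KRLib.locKR_iff _).1
      (KoszAtLib.locKR_ker_of_smooth σ hσ (KoszAtLib.isLCI_of_smooth R (P ⧸ K))))
  have hinj : ∀ x ∈ RingHom.ker σ.toRingHom, x ∈ Q * I → x ∈ Q * RingHom.ker σ.toRingHom := by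
    intro x hx hx'
    rw [hkσ] at hx ⊢
    have hD : ∀ y ∈ Q * I, D R P y ∈ Q • (⊤ : Submodule P Ω[P⁄R]) := fun y hy => by
      refine Submodule.mul_induction_on hy (fun a ha c hc => ?_) (fun a c ha hc => ?_)
      · rw [Derivation.leibniz]
        exact add_mem (Submodule.smul_mem_smul ha trivial) (Submodule.smul_mem_smul (hIQ hc) trivial)
      · rw [map_add]; exact add_mem ha hc
    obtain ⟨a, rfl⟩ := Ideal.mem_span_range_iff_exists_fun.1 hx
    have h1 : ∑ i, a i • b i ∈ Q • (⊤ : Submodule P Ω[P⁄R]) := by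
      have h2 := hD _ hx'
      simp only [map_sum, Derivation.leibniz, ← hb, Finset.sum_add_distrib] at h2
      refine (add_mem_cancel_right ?_).1 h2
      exact sum_mem fun i _ => Submodule.smul_mem_smul (hIQ (hfI i)) trivial
    refine sum_mem fun i _ => Ideal.mul_mem_mul ?_ (Ideal.subset_span (Set.mem_range_self i))
    have h3 : b.coord i (∑ j, a j • b j) ∈ Q :=
      Submodule.smul_induction_on h1 (fun c hc m _ => by
        rw [map_smul, smul_eq_mul]; exact Ideal.mul_mem_right _ _ hc)
        (fun m m' h h' => by rw [map_add]; exact add_mem h h')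
    simpa [Module.Basis.coord_apply, b.repr_sum_self, Finsupp.single_apply] using h3
  obtain ⟨h, hh, hgenK⟩ := SplitRegLib.exists_away hk σ.toRingHom hσ Q I (hkσ.symm ▸ hKI) hIQ
    (hkσ.symm ▸ Submodule.fg_span (Set.finite_range f)) hI hkos hinj
  let S₂ := Localization.Away (σ h)
  let ρ : P →+* S₂ := (algebraMap (P ⧸ K) S₂).comp σ.toRingHom
  have hρR : ρ.comp (algebraMap R P) = algebraMap R S₂ := RingHom.ext fun r => rfl
  have hgenK' : RegImmKindLib.GenK k (I.map ρ) := by
    rw [show ρ = (algebraMap (P ⧸ K) S₂).comp σ.toRingHom from rfl, ← Ideal.map_map]; exact hgenK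
  have hfg : (I.map ρ).FG := by
    obtain ⟨rs, -, he⟩ := hgenK'
    rw [he]
    exact Submodule.fg_span (List.finite_toSet rs)
  have hJ₂ : J.map (algebraMap R S₂) ≤ I.map ρ := by
    rw [← hρR, ← Ideal.map_map]; exact Ideal.map_mono hJI
  have hle : I.map ρ ≤ J.map (algebraMap R S₂) ⊔ I.map ρ • I.map ρ := by
    refine (Ideal.map_mono hgen).trans ?_
    rw [Ideal.map_sup, Ideal.map_sup, Ideal.map_mul, Ideal.map_map, hρR, smul_eq_mul]
    refine sup_le (sup_le ?_ le_sup_left) le_sup_right
    rw [Ideal.map_span, Ideal.span_le]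
    rintro _ ⟨_, ⟨i, rfl⟩, rfl⟩
    have : σ (f i) = 0 := Ideal.Quotient.eq_zero_iff_mem.2 (Ideal.subset_span (Set.mem_range_self i))
    show ρ (f i) ∈ _
    rw [show ρ (f i) = algebraMap (P ⧸ K) S₂ (σ (f i)) from rfl, this, map_zero]
    exact zero_mem _
  obtain ⟨e, he1, he2⟩ := Submodule.exists_sub_one_mem_and_smul_le_of_fg_of_le_sup hfg le_rfl hle
  let C := Localization.Away e
  haveI : Algebra.Smooth R S₂ :=
    haveI : Algebra.Smooth (P ⧸ K) S₂ := Algebra.Smooth.of_isLocalization_Away (σ h)
    Algebra.Smooth.comp R (P ⧸ K) S₂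
  haveI : Algebra.Smooth R C :=
    haveI : Algebra.Smooth S₂ C := Algebra.Smooth.of_isLocalization_Away e
    Algebra.Smooth.comp R S₂ C
  refine ⟨C, inferInstance, inferInstance, inferInstance, inferInstance, ?_, ?_⟩
  · -- the point
    have hKQ : RingHom.ker σ.toRingHom ≤ Q := hkσ.symm ▸ hKI.trans hIQ
    haveI hQ₁ : (Q.map σ.toRingHom).IsPrime := Ideal.map_isPrime_of_surjective hσ hKQ
    have hc₁ : (Q.map σ.toRingHom).comap σ.toRingHom = Q := by
      exact (Ideal.comap_map_of_surjective σ.toRingHom hσ _).trans (sup_eq_left.2 hKQ)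
    have hh₁ : σ h ∉ Q.map σ.toRingHom := fun h1 => hh (hc₁.le h1)
    have hd₁ : Disjoint (Submonoid.powers (σ h) : Set (P ⧸ K)) (Q.map σ.toRingHom : Ideal _) :=
      (Ideal.disjoint_powers_iff_notMem_of_isPrime _).2 hh₁
    haveI hQ₂ := IsLocalization.isPrime_of_isPrime_disjoint (Submonoid.powers (σ h)) S₂ _ hQ₁ hd₁
    have hc₂ : ((Q.map σ.toRingHom).map (algebraMap (P ⧸ K) S₂)).comap (algebraMap (P ⧸ K) S₂) =
        Q.map σ.toRingHom := IsLocalization.comap_map_of_isPrime_disjoint (Submonoid.powers (σ h)) S₂ hQ₁ hd₁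
    have he₂ : e ∉ (Q.map σ.toRingHom).map (algebraMap (P ⧸ K) S₂) := fun h1 => by
      have h2 : e - 1 ∈ (Q.map σ.toRingHom).map (algebraMap (P ⧸ K) S₂) := by
        rw [Ideal.map_map]; exact Ideal.map_mono hIQ he1
      exact hQ₂.ne_top ((Ideal.eq_top_iff_one _).2 (by simpa using sub_mem h1 h2))
    have hd₂ := (Ideal.disjoint_powers_iff_notMem_of_isPrime (I := (Q.map σ.toRingHom).map
      (algebraMap (P ⧸ K) S₂)) (y := e)).2 he₂
    refine ⟨_, IsLocalization.isPrime_of_isPrime_disjoint (Submonoid.powers e) C _ hQ₂ hd₂, ?_⟩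
    rw [IsScalarTower.algebraMap_eq R S₂ C, ← Ideal.comap_comap,
      show Ideal.comap (algebraMap S₂ C) (Ideal.map (algebraMap S₂ C) _) = _ from
        IsLocalization.comap_map_of_isPrime_disjoint (Submonoid.powers e) C hQ₂ hd₂, ← hρR, ← Ideal.comap_comap,
      show Ideal.comap ρ = fun M => Ideal.comap σ.toRingHom (Ideal.comap (algebraMap (P ⧸ K) S₂) M) from
        funext fun M => (Ideal.comap_comap _ _).symm]
    exact congrArg (Ideal.comap (algebraMap R P)) ((congrArg (Ideal.comap σ.toRingHom) hc₂).trans hc₁)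
  · -- the ideal
    have heq : J.map (algebraMap R C) = (I.map ρ).map (algebraMap S₂ C) := by
      rw [IsScalarTower.algebraMap_eq R S₂ C, ← Ideal.map_map]
      refine le_antisymm (Ideal.map_mono hJ₂) (Ideal.map_le_iff_le_comap.2 fun y hy => ?_)
      have h1 : e * y ∈ J.map (algebraMap R S₂) := he2 (Submodule.smul_mem_pointwise_smul y e _ hy)
      have h2 := Ideal.mem_map_of_mem (algebraMap S₂ C) h1
      rw [map_mul] at h2
      rw [Ideal.mem_comap]
      exact (Ideal.unit_mul_mem_iff_mem _ (IsLocalization.Away.algebraMap_isUnit (S := C) e)).1 h2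
    rw [heq]
    intro p hp hle'
    refine ⟨1, fun h1 => hp.ne_top ((Ideal.eq_top_iff_one _).2 h1), ?_⟩
    haveI : Module.Flat S₂ C := IsLocalization.flat _ (Submonoid.powers e)
    exact (hgenK'.map_flat (R := C) hk).map_flat hk

/-- Near a prime the differentials of equations of a subscheme form a basis, when the subscheme maps
closed immersively to the base. -/
theorem exists_local_basis [Algebra.Smooth R P] {A : Type u} [CommRing A] [Algebra R A] (π : P →ₐ[R] A)
    (hRA : Function.Surjective (algebraMap R A)) (Q : Ideal P) [Q.IsPrime]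
    (hIQ : RingHom.ker π.toRingHom ≤ Q) :
    ∃ (P' : Type u) (_ : CommRing P') (_ : Algebra P P') (_ : Algebra R P') (_ : IsScalarTower R P P'),
      Algebra.Smooth R P' ∧ Module.Flat P P' ∧
      (∃ Q' : Ideal P', Q'.IsPrime ∧ Q'.comap (algebraMap P P') = Q) ∧
      ∃ (ι : Type u) (_ : Finite ι) (b : Module.Basis ι P' Ω[P'⁄R]) (f : ι → P),
        (∀ i, f i ∈ RingHom.ker π.toRingHom) ∧ (∀ i, b i = D R P' (algebraMap P P' (f i))) ∧
        (RingHom.ker π.toRingHom).map (algebraMap P P') ≤
          Ideal.span (Set.range fun i => algebraMap P P' (f i)) ⊔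
          (RingHom.ker (algebraMap R A)).map (algebraMap R P') ⊔
          (RingHom.ker π.toRingHom).map (algebraMap P P') * (RingHom.ker π.toRingHom).map (algebraMap P P') := by
  classical
  let I := RingHom.ker π.toRingHom
  let J := RingHom.ker (algebraMap R A)
  choose s hs using fun x : P => hRA (π x)
  have hsI : ∀ x, x - algebraMap R P (s x) ∈ I := fun x => by
    show π (x - algebraMap R P (s x)) = 0
    rw [map_sub, AlgHom.commutes, hs, sub_self]
  obtain ⟨g, hg, hstd⟩ := Algebra.IsSmoothAt.exists_notMem_isStandardSmooth R Q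
  let P₁ := Localization.Away g
  have hdg := (Ideal.disjoint_powers_iff_notMem_of_isPrime (I := Q) (y := g)).2 hg
  haveI hQ₁ : (Q.map (algebraMap P P₁)).IsPrime :=
    IsLocalization.isPrime_of_isPrime_disjoint (Submonoid.powers g) P₁ Q ‹_› hdg
  haveI : Algebra.IsStandardSmooth R P₁ := hstd
  haveI : Nontrivial P₁ := nontrivial_of_ne 0 1 fun h => hQ₁.ne_top ((Ideal.eq_top_iff_one _).2 (h ▸ zero_mem _))
  let ι := Module.Free.ChooseBasisIndex P₁ Ω[P₁⁄R]
  haveI : Finite ι := Module.Finite.finite_basis (Module.Free.chooseBasis P₁ Ω[P₁⁄R])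
  cases nonempty_fintype ι
  let c : Module.Basis ι P₁ Ω[P₁⁄R] := Module.Free.chooseBasis _ _
  let κ := (Q.map (algebraMap P P₁)).ResidueField
  let θ : P₁ →+* κ := algebraMap P₁ κ
  let V : I → (ι → κ) := fun x i => θ (c.repr (D R P₁ (algebraMap P P₁ (x : P))) i)
  have hV : Submodule.span κ (Set.range V) = ⊤ := by
    have hall : ∀ z : Ω[P₁⁄R], (fun i => θ (c.repr z i)) ∈ Submodule.span κ (Set.range V) := by
      intro z
      have hz : z ∈ Submodule.span P₁ (Set.range (KaehlerDifferential.map R R P P₁ ∘ D R P)) :=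
        (span_range_map_derivation_of_isLocalization R P P₁ (Submonoid.powers g)).ge trivial
      induction hz using Submodule.span_induction with
      | mem z hz =>
        obtain ⟨x, rfl⟩ := hz
        have h1 : (KaehlerDifferential.map R R P P₁ ∘ D R P) x =
            D R P₁ (algebraMap P P₁ (x - algebraMap R P (s x))) := by
          rw [Function.comp_apply, KaehlerDifferential.map_D, map_sub, map_sub,
            ← IsScalarTower.algebraMap_apply, Derivation.map_algebraMap, sub_zero]
        rw [h1]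
        exact Submodule.subset_span ⟨⟨_, hsI x⟩, rfl⟩
      | zero => simp [← Pi.zero_def]
      | add y z _ _ hy hz =>
        convert add_mem hy hz using 1
        funext i; simp
      | smul a z _ hz =>
        convert Submodule.smul_mem _ (θ a) hz using 1
        funext i; simp
    rw [eq_top_iff, ← (Pi.basisFun κ ι).span_eq, Submodule.span_le]
    rintro _ ⟨i, rfl⟩
    rw [SetLike.mem_coe]
    convert hall (c i) using 1
    funext j
    simp [Finsupp.single_apply, Pi.single_apply, apply_ite θ, eq_comm]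
  obtain ⟨t, htV, htspan, htli⟩ := exists_linearIndependent κ (Set.range V)
  let B : Module.Basis t κ (ι → κ) := Module.Basis.mk htli (by rw [Subtype.range_coe, htspan, hV])
  haveI : Finite t := Module.Finite.finite_basis B
  let eι : ι ≃ t := (Pi.basisFun κ ι).indexEquiv B
  choose x hx using fun i => htV (eι i).2
  let f : ι → P := fun i => (x i : P)
  let M : Matrix ι ι P₁ := c.toMatrix fun i => D R P₁ (algebraMap P P₁ (f i))
  have hd : M.det ∉ Q.map (algebraMap P P₁) := by
    have hcol : LinearIndependent κ (θ.mapMatrix M).col := by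
      have : (θ.mapMatrix M).col = (fun z : t => (z : ι → κ)) ∘ eι := by
        funext i
        rw [Function.comp_apply, ← hx i]
        rfl
      rw [this]
      exact htli.comp _ eι.injective
    have h1 := (Matrix.isUnit_iff_isUnit_det _).1 (Matrix.linearIndependent_cols_iff_isUnit.1 hcol)
    rw [← RingHom.map_det] at h1
    intro h2
    exact h1.ne_zero (Ideal.algebraMap_residueField_eq_zero.2 h2)
  let P' := Localization.Away M.det
  have hdd := (Ideal.disjoint_powers_iff_notMem_of_isPrime (I := Q.map (algebraMap P P₁)) (y := M.det)).2 hd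
  haveI : Algebra.FormallyEtale P P₁ := Algebra.FormallyEtale.of_isLocalization (Submonoid.powers g)
  haveI : Algebra.FormallyEtale P₁ P' := Algebra.FormallyEtale.of_isLocalization (Submonoid.powers M.det)
  haveI : Algebra.FormallyEtale P P' := Algebra.FormallyEtale.comp P P₁ P'
  haveI : Module.Flat P P₁ := IsLocalization.flat _ (Submonoid.powers g)
  haveI : Module.Flat P₁ P' := IsLocalization.flat _ (Submonoid.powers M.det)
  haveI : Algebra.Smooth R P' :=
    haveI : Algebra.Smooth P₁ P' := Algebra.Smooth.of_isLocalization_Away M.det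
    haveI : Algebra.Smooth P P₁ := Algebra.Smooth.of_isLocalization_Away g
    haveI : Algebra.Smooth R P₁ := Algebra.Smooth.comp R P P₁
    Algebra.Smooth.comp R P₁ P'
  let lin := KaehlerDifferential.map R R P₁ P'
  have hbc : IsBaseChange P' lin := KaehlerDifferential.isBaseChange_of_formallyEtale R P₁ P'
  let c' := hbc.basis c
  let v : ι → Ω[P'⁄R] := fun i => D R P' (algebraMap P P' (f i))
  have hdet : IsUnit (c'.det v) := by
    have : c'.toMatrix v = (algebraMap P₁ P').mapMatrix M := by
      ext i j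
      have h1 : v j = lin (D R P₁ (algebraMap P P₁ (f j))) := by
        simp only [lin, v]; rw [KaehlerDifferential.map_D, ← IsScalarTower.algebraMap_apply]
      rw [Module.Basis.toMatrix_apply, h1]
      exact IsBaseChange.basis_repr_comp_apply c hbc _ i
    rw [Module.Basis.det_apply, this, ← RingHom.map_det]
    exact IsLocalization.Away.algebraMap_isUnit M.det
  obtain ⟨hli, hsp⟩ := (c'.is_basis_iff_det).2 hdet
  let b : Module.Basis ι P' Ω[P'⁄R] := Module.Basis.mk hli hsp.ge
  have hb : ∀ i, b i = v i := fun i => Module.Basis.mk_apply hli hsp.ge i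
  refine ⟨P', inferInstance, inferInstance, inferInstance, inferInstance, inferInstance,
    Module.Flat.trans P P₁ P', ⟨_, IsLocalization.isPrime_of_isPrime_disjoint (Submonoid.powers M.det) P' _ hQ₁ hdd, ?_⟩,
    ι, inferInstance, b, f, fun i => (x i).2, hb, ?_⟩
  · rw [IsScalarTower.algebraMap_eq P P₁ P', ← Ideal.comap_comap]
    exact (congrArg (Ideal.comap (algebraMap P P₁))
      (IsLocalization.comap_map_of_isPrime_disjoint (Submonoid.powers M.det) P' hQ₁ hdd)).trans
      (IsLocalization.comap_map_of_isPrime_disjoint (Submonoid.powers g) P₁ ‹Q.IsPrime› hdg)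
  -- generation modulo the square
  let N : Ideal P := I * I ⊔ J.map (algebraMap R P)
  let N' := N.map (algebraMap P P')
  have hmk : ∀ a, a ∈ J → Ideal.Quotient.mk N (algebraMap R P a) = 0 := fun a ha =>
    Ideal.Quotient.eq_zero_iff_mem.2 (Ideal.mem_sup_right (Ideal.mem_map_of_mem _ ha))
  let q : R → P ⧸ N := fun a => Ideal.Quotient.mk N (algebraMap R P a)
  have hq : ∀ a c, algebraMap R A a = algebraMap R A c → q a = q c := fun a c h => by
    show Ideal.Quotient.mk N (algebraMap R P a) = Ideal.Quotient.mk N (algebraMap R P c)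
    rw [← sub_eq_zero, ← map_sub, ← map_sub]
    exact hmk _ (by show algebraMap R A (a - c) = 0; rw [map_sub, h, sub_self])
  let δ' : P →ₗ[R] P ⧸ N :=
    { toFun := fun y => Ideal.Quotient.mk N y - q (s y)
      map_add' := fun y z => by
        rw [hq (s (y + z)) (s y + s z) (by rw [hs, map_add, map_add, hs, hs])]
        simp only [q, map_add]; ring
      map_smul' := fun a y => by
        rw [hq (s (a • y)) (a * s y) (by rw [hs, map_smul, map_mul, hs, Algebra.smul_def])]
        simp only [q, Algebra.smul_def, map_mul, RingHom.id_apply, IsScalarTower.algebraMap_apply R P (P ⧸ N),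
          Ideal.Quotient.algebraMap_eq]
        ring }
  let δ : Derivation R P (P ⧸ N) := Derivation.mk' δ' fun y z => by
    show Ideal.Quotient.mk N (y * z) - q (s (y * z)) =
      y • (Ideal.Quotient.mk N z - q (s z)) + z • (Ideal.Quotient.mk N y - q (s y))
    rw [hq (s (y * z)) (s y * s z) (by rw [hs, map_mul, map_mul, hs, hs])]
    simp only [q, Algebra.smul_def, Ideal.Quotient.algebraMap_eq, map_mul]
    rw [← sub_eq_zero]
    have h0 : Ideal.Quotient.mk N ((y - algebraMap R P (s y)) * (z - algebraMap R P (s z))) = 0 :=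
      Ideal.Quotient.eq_zero_iff_mem.2 (Ideal.mem_sup_left (Ideal.mul_mem_mul (hsI y) (hsI z)))
    rw [map_mul, map_sub, map_sub] at h0
    linear_combination -h0
  have hδ : ∀ y ∈ I, δ y = Ideal.Quotient.mk N y := fun y hy => by
    show Ideal.Quotient.mk N y - q (s y) = _
    rw [hq (s y) 0 (by rw [hs, map_zero]; exact hy)]
    simp [q]
  let mkl : (P ⧸ N) →ₗ[P] (P' ⧸ N') := Submodule.mapQ N (N'.restrictScalars P) (Algebra.linearMap P P')
    (fun y hy => Ideal.mem_map_of_mem _ hy)
  let φ : Ω[P⁄R] →ₗ[P] (P' ⧸ N') := mkl.comp δ.liftKaehlerDifferential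
  have hbc2 : IsBaseChange P' (KaehlerDifferential.map R R P P') :=
    KaehlerDifferential.isBaseChange_of_formallyEtale R P P'
  let φ' : Ω[P'⁄R] →ₗ[P'] (P' ⧸ N') := hbc2.lift φ
  have hφ : ∀ y ∈ I, φ' (D R P' (algebraMap P P' y)) = Ideal.Quotient.mk N' (algebraMap P P' y) := fun y hy => by
    rw [← KaehlerDifferential.map_D R R P P', hbc2.lift_eq]
    show mkl (δ.liftKaehlerDifferential (D R P y)) = _
    rw [Derivation.liftKaehlerDifferential_comp_D, hδ y hy]
    rfl
  refine Ideal.map_le_iff_le_comap.2 fun y hy => ?_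
  rw [Ideal.mem_comap]
  let a := b.repr (D R P' (algebraMap P P' y))
  have h1 : Ideal.Quotient.mk N' (algebraMap P P' y) =
      Ideal.Quotient.mk N' (∑ i, a i * algebraMap P P' (f i)) := by
    rw [← hφ y hy, ← b.sum_repr (D R P' (algebraMap P P' y)), map_sum, map_sum]
    refine Finset.sum_congr rfl fun i _ => ?_
    rw [map_smul, hb, hφ (f i) (x i).2, map_mul]
    rfl
  have h2 := (Ideal.Quotient.eq (I := N')).1 h1
  have hN' : N' ≤ J.map (algebraMap R P') ⊔ I.map (algebraMap P P') * I.map (algebraMap P P') := by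
    show (I * I ⊔ J.map (algebraMap R P)).map (algebraMap P P') ≤ _
    rw [Ideal.map_sup, Ideal.map_mul, Ideal.map_map, ← IsScalarTower.algebraMap_eq]
    exact sup_le le_sup_right le_sup_left
  rw [sup_assoc, ← sub_add_cancel (algebraMap P P' y) (∑ i, a i * algebraMap P P' (f i))]
  exact add_mem (Submodule.mem_sup_right (hN' h2)) (Submodule.mem_sup_left
    (sum_mem fun i _ => Ideal.mul_mem_left _ _ (Ideal.subset_span (Set.mem_range_self i))))

/-- Regularity of a closed subscheme of a smooth scheme passes to the base, when closed there. -/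
theorem locK_ker_of_smooth [Algebra.Smooth R P] {A : Type u} [CommRing A] [Algebra R A] (π : P →ₐ[R] A)
    (hRA : Function.Surjective (algebraMap R A)) {k : RegImm.Kind} (hk : k ≠ .regular)
    (hI : RegImmKindLib.LocK k (RingHom.ker π.toRingHom)) :
    RegImmKindLib.LocK k (RingHom.ker (algebraMap R A)) := by
  refine RegImmKindLib.locK_of_cover hk fun q hq hJq => ?_
  let J := RingHom.ker (algebraMap R A)
  haveI hqA : (q.map (algebraMap R A)).IsPrime := Ideal.map_isPrime_of_surjective hRA hJq
  let Q : Ideal P := (q.map (algebraMap R A)).comap π.toRingHom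
  have hQq : Q.comap (algebraMap R P) = q := by
    show ((q.map (algebraMap R A)).comap π.toRingHom).comap (algebraMap R P) = q
    rw [Ideal.comap_comap, show π.toRingHom.comp (algebraMap R P) = algebraMap R A from π.comp_algebraMap,
      Ideal.comap_map_of_surjective _ hRA]
    exact sup_eq_left.2 hJq
  have hIQ : RingHom.ker π.toRingHom ≤ Q := Ideal.ker_le_comap _
  obtain ⟨P', iP', iA, iR, iT, hsm, hfl, ⟨Q', hQ', hQ'c⟩, ι, hι, b, f, hf, hb, hgen⟩ :=
    exists_local_basis π hRA Q hIQ
  letI := iP'; letI := iA; letI := iR; letI := iT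
  haveI := hsm; haveI := hfl; haveI := hQ'; haveI := hι
  have hJI : J.map (algebraMap R P') ≤ (RingHom.ker π.toRingHom).map (algebraMap P P') := by
    rw [IsScalarTower.algebraMap_eq R P P', ← Ideal.map_map]
    refine Ideal.map_mono (Ideal.map_le_iff_le_comap.2 fun a ha => ?_)
    show π (algebraMap R P a) = 0
    rw [AlgHom.commutes]; exact ha
  obtain ⟨C, iC, iRC, hCf, hCp, ⟨p, hp, hpq⟩, hCJ⟩ := exists_chart hk J _ (hI.map_flat (R := P') hk) hJI Q'
    (Ideal.map_le_iff_le_comap.2 (hQ'c.symm ▸ hIQ)) b (fun i => algebraMap P P' (f i)) hb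
    (fun i => Ideal.mem_map_of_mem _ (hf i)) hgen
  letI := iC; letI := iRC
  haveI := hCf; haveI := hCp
  have hpq' : p.comap (algebraMap R C) = q := by
    rw [hpq, IsScalarTower.algebraMap_eq R P P', ← Ideal.comap_comap, hQ'c, hQq]
  have hopen := PrimeSpectrum.isOpenMap_comap_of_hasGoingDown_of_finitePresentation (R := R) (S := C) _
    isOpen_univ
  obtain ⟨_, ⟨u, rfl⟩, hu, husub⟩ := PrimeSpectrum.isTopologicalBasis_basic_opens.exists_subset_of_mem_open
    (a := (⟨q, hq⟩ : PrimeSpectrum R))
    (show (⟨q, hq⟩ : PrimeSpectrum R) ∈ PrimeSpectrum.comap (algebraMap R C) '' Set.univ from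
      ⟨⟨p, hp⟩, trivial, PrimeSpectrum.ext hpq'⟩) hopen
  refine ⟨u, hu, ?_⟩
  let B := Localization.Away u
  let Cu := Localization.Away (algebraMap R C u)
  letI : Algebra B Cu := (IsLocalization.Away.map B Cu (algebraMap R C) u).toAlgebra
  haveI : IsScalarTower R B Cu := IsScalarTower.of_algebraMap_eq fun a =>
    (IsScalarTower.algebraMap_apply R C Cu a).trans (by
      show _ = IsLocalization.Away.map B Cu (algebraMap R C) u (algebraMap R B a)
      simp only [IsLocalization.Away.map, IsLocalization.map_eq])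
  haveI : Module.Flat C Cu := IsLocalization.flat _ (Submonoid.powers (algebraMap R C u))
  haveI : Module.Flat R Cu := Module.Flat.trans R C Cu
  haveI : Module.Flat B Cu := (Module.flat_iff_of_isLocalization B (Submonoid.powers u) Cu).mpr inferInstance
  haveI : Module.FaithfullyFlat B Cu := by
    refine Module.FaithfullyFlat.of_comap_surjective fun r => ?_
    have hr : PrimeSpectrum.comap (algebraMap R B) r ∈ PrimeSpectrum.basicOpen u := fun h1 =>
      r.isPrime.ne_top (Ideal.eq_top_of_isUnit_mem _ h1 (IsLocalization.Away.algebraMap_isUnit u))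
    obtain ⟨⟨p', hp'⟩, -, hpp⟩ := husub hr
    have hp'u : algebraMap R C u ∉ p' := fun h1 => hr (hpp ▸ h1)
    have hd := (Ideal.disjoint_powers_iff_notMem_of_isPrime (I := p') (y := algebraMap R C u)).2 hp'u
    haveI := IsLocalization.isPrime_of_isPrime_disjoint (Submonoid.powers (algebraMap R C u)) Cu p' hp' hd
    refine ⟨⟨p'.map (algebraMap C Cu), inferInstance⟩, ?_⟩
    apply PrimeSpectrum.localization_comap_injective B (Submonoid.powers u)
    refine Eq.trans ?_ hpp
    refine PrimeSpectrum.ext ?_
    show ((p'.map (algebraMap C Cu)).comap (algebraMap B Cu)).comap (algebraMap R B) = p'.comap (algebraMap R C)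
    rw [Ideal.comap_comap, ← IsScalarTower.algebraMap_eq, IsScalarTower.algebraMap_eq R C Cu, ← Ideal.comap_comap]
    exact congrArg (Ideal.comap (algebraMap R C))
      (IsLocalization.comap_map_of_isPrime_disjoint (Submonoid.powers (algebraMap R C u)) Cu hp' hd)
  refine RegImmKindLib.LocK.of_faithfullyFlat (B := Cu) hk ?_
  have h3 := hCJ.map_flat (R := Cu) hk
  rw [Ideal.map_map, ← IsScalarTower.algebraMap_eq] at h3 ⊢
  exact h3

end SmoothDescRegLib
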